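import Groth.Prelude.Def_CycDet
import Mathlib

/-! The determinant of a finite length module has dimension at most one. -/

set_option autoImplicit false

universe u v

namespace Groth.Agent.CycDetRank

open IsLocalRing CycDet

variable {R : Type u} [CommRing R] [IsLocalRing R] {M : Type v} [AddCommGroup M] [Module R M] {l : ℕ}

/-- the class of a tuple -/
noncomputable def cls (e : Adm R M l) : DetOfLen R M l := Submodule.Quotient.mk (sym R M e)

theorem cls_eq_zero (e : Adm R M l) (a : Fin l) (h : e.1 a ∈ spanBefore R M e.1 a) : cls e = 0 :=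
  (Submodule.Quotient.mk_eq_zero _).2 (Submodule.subset_span (Or.inl (Or.inl ⟨e, a, h, rfl⟩)))

theorem cls_unit (e e' : Adm R M l) (a : Fin l) (c : Rˣ) (h : ∀ j, j ≠ a → e.1 j = e'.1 j)
    (h' : e.1 a - (c : R) • e'.1 a ∈ spanBefore R M e.1 a) :
    cls e = residue R (c : R) • cls e' := by
  rw [← sub_eq_zero]
  show Submodule.Quotient.mk (sym R M e - residue R (c : R) • sym R M e') =
    (0 : DetOfLen R M l)
  exact (Submodule.Quotient.mk_eq_zero _).2
    (Submodule.subset_span (Or.inl (Or.inr ⟨e, e', a, c, h, h', rfl⟩)))

theorem cls_swap (e e' : Adm R M l) (a b : Fin l) (hab : (b : ℕ) + 1 = a)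
    (h : ∀ r ∈ maximalIdeal R, r • e.1 a ∈ spanBefore R M e.1 b) (he : e'.1 = e.1 ∘ Equiv.swap a b) :
    cls e = - cls e' := by
  rw [← add_eq_zero_iff_eq_neg]
  show Submodule.Quotient.mk (sym R M e + sym R M e') = (0 : DetOfLen R M l)
  exact (Submodule.Quotient.mk_eq_zero _).2
    (Submodule.subset_span (Or.inr ⟨e, e', a, b, hab, h, he, rfl⟩))

theorem spanBefore_mono (e : Fin l → M) {i j : ℕ} (h : i ≤ j) :
    spanBefore R M e i ≤ spanBefore R M e j :=
  Submodule.span_mono (Set.image_mono fun _ hx => lt_of_lt_of_le hx h)

theorem mem_spanBefore (e : Fin l → M) (j : Fin l) {i : ℕ} (h : (j : ℕ) < i) :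
    e j ∈ spanBefore R M e i :=
  Submodule.subset_span ⟨j, h, rfl⟩

theorem spanBefore_congr {e e' : Fin l → M} {i : ℕ} (h : ∀ j : Fin l, (j : ℕ) < i → e j = e' j) :
    spanBefore R M e i = spanBefore R M e' i := by
  unfold spanBefore
  congr 1
  ext x
  exact ⟨fun ⟨j, hj, hx⟩ => ⟨j, hj, (h j hj).symm.trans hx⟩, fun ⟨j, hj, hx⟩ => ⟨j, hj, (h j hj).trans hx⟩⟩

theorem spanBefore_succ (e : Fin l → M) (j : Fin l) :
    spanBefore R M e (j + 1) = Submodule.span R {e j} ⊔ spanBefore R M e j := by
  unfold spanBefore
  rw [← Submodule.span_union, ← Set.image_singleton, ← Set.image_union]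
  congr 2
  ext i
  simp [Fin.ext_iff]
  omega

/-- a nonzero symbol spans the module -/
theorem spanBefore_eq_top (hM : IsFiniteLength R M) (hl : (Module.length R M).toNat = l)
    (e : Adm R M l) (he : cls e ≠ 0) : spanBefore R M e.1 l = ⊤ := by
  obtain ⟨_, _⟩ := isFiniteLength_iff_isNoetherian_isArtinian.1 hM
  have key : ∀ i : ℕ, i ≤ l → (i : ℕ∞) ≤ Order.height (spanBefore R M e.1 i) := by
    intro i
    induction i with
    | zero => simp
    | succ i ih =>
      intro hi
      have hlt : spanBefore R M e.1 i < spanBefore R M e.1 (i + 1) := by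
        refine lt_of_le_not_ge (spanBefore_mono _ (Nat.le_succ i)) fun hle => he ?_
        exact cls_eq_zero e ⟨i, hi⟩ (hle (mem_spanBefore e.1 ⟨i, hi⟩ (Nat.lt_succ_self i)))
      have h1 := Submodule.height_strictMono (R := R) (M := M) hlt
      have h2 := ih (by omega)
      rw [Nat.cast_add, Nat.cast_one]
      exact le_trans (add_le_add h2 le_rfl) (Order.add_one_le_of_lt h1)
  by_contra hne
  have h1 := Submodule.length_lt hne
  rw [Module.length_submodule] at h1
  have h2 := key l le_rfl
  have h3 : Module.length R M ≠ ⊤ := Module.length_ne_top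
  obtain ⟨n, hn⟩ := ENat.ne_top_iff_exists.1 h3
  rw [← hn] at h1 hl
  simp only [ENat.toNat_coe] at hl
  subst hl
  exact absurd (lt_of_le_of_lt h2 h1) (lt_irrefl _)

/-- moving an element into a given position -/
theorem exists_moved (e : Adm R M l) (x : M) (k : ℕ) (hk : k < l)
    (hx : ∀ r ∈ maximalIdeal R, r • x ∈ spanBefore R M e.1 k) :
    ∀ j : ℕ, ∀ hj : j < l, k ≤ j → e.1 ⟨j, hj⟩ = x →
      ∃ e2 : Adm R M l, (∀ i : Fin l, (i : ℕ) < k → e2.1 i = e.1 i) ∧ e2.1 ⟨k, hk⟩ = x ∧
        cls e ∈ Submodule.span (ResidueField R) {cls e2} := by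
  intro j
  induction j generalizing e with
  | zero =>
    intro hj hkj hex
    have hk0 : k = 0 := by omega
    subst hk0
    exact ⟨e, fun _ _ => rfl, hex, Submodule.mem_span_singleton_self _⟩
  | succ j ih =>
    intro hj hkj hex
    rcases eq_or_lt_of_le hkj with h | h
    · subst h
      exact ⟨e, fun _ _ => rfl, hex, Submodule.mem_span_singleton_self _⟩
    · let b : Fin l := ⟨j, by omega⟩
      let a : Fin l := ⟨j + 1, hj⟩
      have hlow : ∀ r ∈ maximalIdeal R, r • e.1 a ∈ spanBefore R M e.1 b := fun r hr => by
        rw [show e.1 a = x from hex]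
        exact spanBefore_mono e.1 (show k ≤ (b : ℕ) by show k ≤ j; omega) (hx r hr)
      let f : Fin l → M := e.1 ∘ Equiv.swap a b
      have hf : ∀ i : Fin l, i ≠ a → i ≠ b → f i = e.1 i := fun i h1 h2 => by
        simp [f, Equiv.swap_apply_of_ne_of_ne h1 h2]
      have hfa : f a = e.1 b := by simp [f]
      have hfb : f b = e.1 a := by simp [f]
      have heq : ∀ i : ℕ, (i ≤ j ∨ j + 2 ≤ i) → spanBefore R M f i = spanBefore R M e.1 i := by
        intro i hi
        rcases hi with hi | hi
        · exact spanBefore_congr fun t ht => hf t (fun h => by subst h; simp [a] at ht; omega)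
            (fun h => by subst h; simp [b] at ht; omega)
        · unfold spanBefore
          congr 1
          show (e.1 ∘ Equiv.swap a b) '' _ = _
          rw [Set.image_comp]
          congr 1
          ext t
          simp only [Set.mem_image, Set.mem_setOf_eq]
          constructor
          · rintro ⟨s, hs, rfl⟩
            rcases eq_or_ne s a with rfl | h1
            · rw [Equiv.swap_apply_left]; show j < i; omega
            rcases eq_or_ne s b with rfl | h2
            · rw [Equiv.swap_apply_right]; show j + 1 < i; omega
            rwa [Equiv.swap_apply_of_ne_of_ne h1 h2]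
          · intro ht
            refine ⟨Equiv.swap a b t, ?_, Equiv.swap_apply_self _ _ _⟩
            rcases eq_or_ne t a with rfl | h1
            · rw [Equiv.swap_apply_left]; show j < i; omega
            rcases eq_or_ne t b with rfl | h2
            · rw [Equiv.swap_apply_right]; show j + 1 < i; omega
            rwa [Equiv.swap_apply_of_ne_of_ne h1 h2]
      have hadm : IsAdmissible R M f := by
        intro i r hr
        rcases lt_trichotomy (i : ℕ) j with hi | hi | hi
        · rw [heq _ (Or.inl hi.le), hf i (fun h => by subst h; simp [a] at hi)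
            (fun h => by subst h; simp [b] at hi)]
          exact e.2 i r hr
        · have : i = b := Fin.ext hi
          subst this
          rw [hfb, heq _ (Or.inl le_rfl)]
          exact hlow r hr
        · by_cases hi2 : (i : ℕ) = j + 1
          · have : i = a := Fin.ext hi2
            subst this
            rw [hfa]
            refine spanBefore_mono f (Nat.le_succ j) ?_
            rw [heq j (Or.inl le_rfl)]
            exact e.2 b r hr
          · rw [heq _ (Or.inr (by omega)), hf i (fun h => hi2 (by subst h; rfl))
              (fun h => by subst h; simp [b] at hi)]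
            exact e.2 i r hr
      have hx' : ∀ r ∈ maximalIdeal R, r • x ∈ spanBefore R M f k := fun r hr => by
        rw [heq k (Or.inl (by omega))]; exact hx r hr
      obtain ⟨e2, h1, h2, h3⟩ := ih ⟨f, hadm⟩ hx' (show j < l by omega) (by omega)
        (show f b = x by rw [hfb]; exact hex)
      refine ⟨e2, fun i hi => (h1 i hi).trans (hf i (fun h => ?_) (fun h => ?_)), h2, ?_⟩
      · subst h; simp [a] at hi; omega
      · subst h; simp [b] at hi; omega
      rw [cls_swap e ⟨f, hadm⟩ a b rfl hlow rfl]
      exact neg_mem h3

theorem rank_det_le_one (hM : IsFiniteLength R M) :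
    Module.rank (ResidueField R) (Det R M) ≤ 1 := by
  classical
  rw [rank_le_one_iff]
  set l := (Module.length R M).toNat with hl
  by_cases hall : ∀ e : Adm R M l, cls e = 0
  · refine ⟨0, fun v => ⟨0, ?_⟩⟩
    rw [zero_smul]
    obtain ⟨v, rfl⟩ := Submodule.Quotient.mk_surjective _ v
    induction v using Finsupp.induction_linear with
    | zero => rfl
    | add f g hf hg => rw [Submodule.Quotient.mk_add, ← hf, ← hg, add_zero]
    | single e c =>
      rw [← mul_one c, ← smul_eq_mul, ← Finsupp.smul_single, Submodule.Quotient.mk_smul]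
      show 0 = c • cls e
      rw [hall e, smul_zero]
  push Not at hall
  obtain ⟨e', he'⟩ := hall
  refine ⟨cls e', fun v => ?_⟩
  suffices h : v ∈ Submodule.span (ResidueField R) {cls e'} from Submodule.mem_span_singleton.1 h
  obtain ⟨v, rfl⟩ := Submodule.Quotient.mk_surjective _ v
  induction v using Finsupp.induction_linear with
  | zero => exact zero_mem _
  | add f g hf hg => rw [Submodule.Quotient.mk_add]; exact add_mem hf hg
  | single e c =>
    rw [← mul_one c, ← smul_eq_mul, ← Finsupp.smul_single, Submodule.Quotient.mk_smul]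
    refine Submodule.smul_mem _ _ ?_
    show cls e ∈ _
    suffices key : ∀ k ≤ l, ∀ e : Adm R M l, ∃ e2 : Adm R M l,
        (∀ i : Fin l, (i : ℕ) < k → e2.1 i = e'.1 i) ∧ cls e ∈ Submodule.span (ResidueField R) {cls e2} by
      obtain ⟨e2, h1, h2⟩ := key l le_rfl e
      rwa [show e2 = e' from Subtype.ext (funext fun i => h1 i i.2)] at h2
    intro k
    induction k with
    | zero => exact fun _ e => ⟨e, fun i hi => absurd hi (Nat.not_lt_zero _),
        Submodule.mem_span_singleton_self _⟩
    | succ k ih =>
      intro hk e
      obtain ⟨e1, h1, h2⟩ := ih (by omega) e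
      by_cases hz : cls e1 = 0
      · refine ⟨e', fun i _ => rfl, ?_⟩
        rw [hz, Submodule.span_zero_singleton, Submodule.mem_bot] at h2
        rw [h2]; exact zero_mem _
      have hk' : k < l := by omega
      set x := e'.1 ⟨k, hk'⟩ with hxdef
      have hpre : spanBefore R M e1.1 k = spanBefore R M e'.1 k := spanBefore_congr h1
      have hxm : ∀ r ∈ maximalIdeal R, r • x ∈ spanBefore R M e1.1 k := fun r hr => by
        rw [hpre]; exact e'.2 ⟨k, hk'⟩ r hr
      have hxn : x ∉ spanBefore R M e1.1 k := by
        rw [hpre]; exact fun h => he' (cls_eq_zero e' ⟨k, hk'⟩ h)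
      have hex : ∃ j, x ∈ spanBefore R M e1.1 (j + 1) :=
        ⟨l, spanBefore_mono e1.1 (Nat.le_succ l)
          (by rw [spanBefore_eq_top hM rfl e1 hz]; exact Submodule.mem_top)⟩
      let j := Nat.find hex
      have hj : x ∈ spanBefore R M e1.1 (j + 1) := Nat.find_spec hex
      have hkj : k ≤ j := by
        by_contra h
        exact hxn (spanBefore_mono e1.1 (show j + 1 ≤ k by omega) hj)
      have hjl : j < l := by
        by_contra h
        refine hz ?_
        exfalso
        have hl1 : l - 1 + 1 = l := by omega
        have : j ≤ l - 1 := Nat.find_min' hex (by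
          rw [hl1, spanBefore_eq_top hM rfl e1 hz]; exact Submodule.mem_top)
        omega
      have hnot : x ∉ spanBefore R M e1.1 j := by
        intro h
        rcases Nat.eq_zero_or_pos j with h0 | h0
        · exact hxn (spanBefore_mono e1.1 (by omega) h)
        · have := Nat.find_min hex (show j - 1 < j by omega)
          exact this (by rwa [show j - 1 + 1 = j by omega])
      rw [spanBefore_succ e1.1 ⟨j, hjl⟩, Submodule.mem_sup] at hj
      obtain ⟨y, hy, z, hz', hyz⟩ := hj
      obtain ⟨c, rfl⟩ := Submodule.mem_span_singleton.1 hy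
      have hc : IsUnit c := by
        by_contra hc
        refine hnot ?_
        rw [← hyz]
        exact add_mem (e1.2 ⟨j, hjl⟩ c (by simpa [IsLocalRing.mem_maximalIdeal] using hc)) hz'
      obtain ⟨c, rfl⟩ := hc
      let a : Fin l := ⟨j, hjl⟩
      let f : Fin l → M := Function.update e1.1 a x
      have hflow : ∀ i : ℕ, i ≤ j → spanBefore R M f i = spanBefore R M e1.1 i := fun i hi =>
        spanBefore_congr fun t ht => Function.update_of_ne (fun h => by subst h; simp [a] at ht; omega) _ _
      have hfsucc : spanBefore R M f (j + 1) = spanBefore R M e1.1 (j + 1) := by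
        rw [spanBefore_succ f a, spanBefore_succ e1.1 a, show f a = x from Function.update_self _ _ _,
          hflow j le_rfl]
        apply le_antisymm <;> refine sup_le ?_ le_sup_right <;>
          rw [Submodule.span_singleton_le_iff_mem, Submodule.mem_sup]
        · exact ⟨(c : R) • e1.1 a, Submodule.smul_mem _ _ (Submodule.mem_span_singleton_self _), z, hz', hyz⟩
        · refine ⟨(↑c⁻¹ : R) • x, Submodule.smul_mem _ _ (Submodule.mem_span_singleton_self _),
            -((↑c⁻¹ : R) • z), neg_mem (Submodule.smul_mem _ _ hz'), ?_⟩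
          rw [← hyz, smul_add, smul_smul, Units.inv_mul, one_smul, add_neg_cancel_right]
      have hadm : IsAdmissible R M f := by
        intro i r hr
        rcases le_or_gt (i : ℕ) j with hi | hi
        · rw [hflow _ hi]
          by_cases hia : i = a
          · subst hia
            rw [show f a = x from Function.update_self _ _ _]
            exact spanBefore_mono e1.1 hkj (hxm r hr)
          · rw [show f i = e1.1 i from Function.update_of_ne hia _ _]
            exact e1.2 i r hr
        · rw [show f i = e1.1 i from Function.update_of_ne (fun h => by subst h; simp [a] at hi) _ _]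
          have : spanBefore R M e1.1 i ≤ spanBefore R M f i := by
            refine Submodule.span_le.2 ?_
            rintro _ ⟨t, ht, rfl⟩
            by_cases hta : t = a
            · subst hta
              have : e1.1 a ∈ spanBefore R M f (j + 1) := by
                rw [hfsucc]; exact mem_spanBefore _ _ (Nat.lt_succ_self j)
              exact spanBefore_mono f hi this
            · rw [show e1.1 t = f t from (Function.update_of_ne hta _ _).symm]
              exact mem_spanBefore _ _ ht
          exact this (e1.2 i r hr)
      have hcls : cls e1 = residue R ((c⁻¹ : Rˣ) : R) • cls (⟨f, hadm⟩ : Adm R M l) := by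
        refine cls_unit e1 ⟨f, hadm⟩ a c⁻¹ (fun i hi => (Function.update_of_ne hi _ _).symm) ?_
        show e1.1 a - (↑c⁻¹ : R) • f a ∈ _
        rw [show f a = x from Function.update_self _ _ _, ← hyz, smul_add, smul_smul, Units.inv_mul,
          one_smul, sub_add_cancel_left]
        exact neg_mem (Submodule.smul_mem _ _ hz')
      obtain ⟨e2, g1, g2, g3⟩ := exists_moved ⟨f, hadm⟩ x k hk'
        (fun r hr => by show r • x ∈ spanBefore R M f k; rw [hflow k hkj]; exact hxm r hr)
        j hjl hkj (Function.update_self _ _ _)
      refine ⟨e2, fun i hi => ?_, ?_⟩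
      · rcases Nat.lt_succ_iff_lt_or_eq.1 hi with hi | hi
        · rw [g1 i hi, ← h1 i hi]
          exact Function.update_of_ne (fun h => by subst h; simp [a] at hi; omega) _ _
        · rw [show i = ⟨k, hk'⟩ from Fin.ext hi, g2]
      · have : cls e1 ∈ Submodule.span (ResidueField R) {cls e2} := by
          rw [hcls]; exact Submodule.smul_mem _ _ g3
        exact (Submodule.span_singleton_le_iff_mem _ _).2 this h2

end Groth.Agent.CycDetRank
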