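import Groth.Agent.CycDetRank.Basic

/-! A spanning admissible tuple has a nonzero symbol. -/

set_option autoImplicit false

universe u v

namespace Groth.Agent.CycDetRank

open IsLocalRing CycDet

variable {R : Type u} [CommRing R] [IsLocalRing R] {M : Type v} [AddCommGroup M] [Module R M] {l : ℕ}

theorem spanBefore_all (e : Fin l → M) : spanBefore R M e l = Submodule.span R (Set.range e) := by
  unfold spanBefore
  congr 1
  ext x
  exact ⟨fun ⟨j, _, h⟩ => ⟨j, h⟩, fun ⟨j, h⟩ => ⟨j, j.2, h⟩⟩

/-- each step of an admissible filtration has length at most one -/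
theorem length_spanBefore_succ_le (e : Fin l → M) (he : IsAdmissible R M e) (a : Fin l) :
    Module.length R (spanBefore R M e (a + 1)) ≤ Module.length R (spanBefore R M e a) + 1 := by
  set S := spanBefore R M e a
  set T := spanBefore R M e (a + 1) with hT
  have hle : S ≤ T := spanBefore_mono _ (Nat.le_succ _)
  rw [Module.length_eq_add_of_exact (Submodule.inclusion hle) (Submodule.mkQ (LinearMap.range (Submodule.inclusion hle)))
    (Submodule.inclusion_injective hle) (Submodule.mkQ_surjective _) (LinearMap.exact_map_mkQ_range _)]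
  gcongr
  have ha : e a ∈ T := mem_spanBefore e a (Nat.lt_succ_self _)
  let g : R →ₗ[R] T ⧸ LinearMap.range (Submodule.inclusion hle) :=
    LinearMap.toSpanSingleton R _ (Submodule.Quotient.mk ⟨e a, ha⟩)
  have hg : maximalIdeal R ≤ LinearMap.ker g := by
    intro r hr
    rw [LinearMap.mem_ker]
    show r • (Submodule.Quotient.mk ⟨e a, ha⟩ : T ⧸ LinearMap.range (Submodule.inclusion hle)) = 0
    rw [← Submodule.Quotient.mk_smul, Submodule.Quotient.mk_eq_zero]
    exact ⟨⟨r • e a, he a r hr⟩, Subtype.ext rfl⟩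
  have hsurj : Function.Surjective (Submodule.liftQ (maximalIdeal R) g hg) := by
    intro y
    obtain ⟨⟨x, hx⟩, rfl⟩ := Submodule.Quotient.mk_surjective _ y
    have hx' := hx
    rw [hT, spanBefore_succ, Submodule.mem_sup] at hx'
    obtain ⟨y, hy, z, hz, hyz⟩ := hx'
    obtain ⟨c, rfl⟩ := Submodule.mem_span_singleton.1 hy
    refine ⟨Submodule.Quotient.mk c, ?_⟩
    rw [Submodule.liftQ_apply]
    show c • (Submodule.Quotient.mk ⟨e a, ha⟩ : T ⧸ LinearMap.range (Submodule.inclusion hle)) = Submodule.Quotient.mk ⟨x, hx⟩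
    rw [← Submodule.Quotient.mk_smul, Submodule.Quotient.eq]
    refine ⟨⟨-z, neg_mem hz⟩, Subtype.ext ?_⟩
    show -z = c • e a - x
    rw [← hyz]; abel
  refine (Module.length_le_of_surjective _ hsurj).trans (le_of_eq ?_)
  have : IsSimpleModule R (R ⧸ maximalIdeal R) := isSimpleModule_iff_isCoatom.2 (maximalIdeal.isMaximal R).out
  exact Module.length_eq_one R _

theorem length_spanBefore_le (e : Fin l → M) (he : IsAdmissible R M e) :
    ∀ i, i ≤ l → Module.length R (spanBefore R M e i) ≤ i := by
  intro i
  induction i with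
  | zero =>
    intro _
    have : spanBefore R M e 0 = ⊥ := by simp [spanBefore]
    rw [this]; simp
  | succ i ih =>
    intro hi
    refine (length_spanBefore_succ_le e he ⟨i, hi⟩).trans ?_
    push_cast
    exact add_le_add (ih (by omega)) le_rfl

/-- a spanning tuple of the correct length is strict -/
theorem not_mem_of_spans (hM : Module.length R M = l) (e : Fin l → M) (he : IsAdmissible R M e)
    (hs : spanBefore R M e l = ⊤) (a : Fin l) : e a ∉ spanBefore R M e a := by
  intro ha
  have key : ∀ i, (a : ℕ) + 1 ≤ i → i ≤ l → Module.length R (spanBefore R M e i) + 1 ≤ i := by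
    intro i hi
    induction i, hi using Nat.le_induction with
    | base =>
      intro _
      have : spanBefore R M e (a + 1) = spanBefore R M e a := by
        rw [spanBefore_succ, sup_eq_right, Submodule.span_singleton_le_iff_mem]
        exact ha
      rw [this]
      push_cast
      exact add_le_add (length_spanBefore_le e he a a.2.le) le_rfl
    | succ i hi ih =>
      intro hi'
      push_cast
      exact add_le_add ((length_spanBefore_succ_le e he ⟨i, hi'⟩).trans (ih (by omega))) le_rfl
  have := key l a.2 le_rfl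
  rw [hs, Module.length_top, hM] at this
  norm_cast at this
  omega

/-- being a multiplicative weight for the admissible relations -/
def IsWeight (ψ : Adm R M l → ResidueField R) : Prop :=
  (∀ e : Adm R M l, spanBefore R M e.1 l ≠ ⊤ → ψ e = 0) ∧
  (∀ e : Adm R M l, spanBefore R M e.1 l = ⊤ → ψ e ≠ 0) ∧
  (∀ (e e' : Adm R M l) (a : Fin l) (c : Rˣ), (∀ j, j ≠ a → e.1 j = e'.1 j) →
    e.1 a - (c : R) • e'.1 a ∈ spanBefore R M e.1 a → ψ e = residue R (c : R) * ψ e') ∧
  (∀ (e e' : Adm R M l) (a b : Fin l), (b : ℕ) + 1 = a →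
    (∀ r ∈ maximalIdeal R, r • e.1 a ∈ spanBefore R M e.1 b) → e'.1 = e.1 ∘ Equiv.swap a b →
    ψ e + ψ e' = 0)

/-- `p` is the position of `v` and `c` its coefficient -/
def Piv (v : M) (e : Fin l → M) (p : Fin l) (c : Rˣ) : Prop :=
  v ∉ spanBefore R M e p ∧ v - (c : R) • e p ∈ spanBefore R M e p

theorem exists_piv {v : M} (hv : v ≠ 0) (e : Fin l → M) (he : IsAdmissible R M e)
    (hs : spanBefore R M e l = ⊤) : ∃ (p : Fin l) (c : Rˣ), Piv v e p c := by
  classical
  have h : ∃ i, v ∈ spanBefore R M e i := ⟨l, hs ▸ Submodule.mem_top⟩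
  have h0 : Nat.find h ≠ 0 := by
    intro h0
    have := Nat.find_spec h
    rw [h0] at this
    exact hv (by simpa [spanBefore] using this)
  have hl : Nat.find h ≤ l := Nat.find_min' h (hs ▸ Submodule.mem_top)
  let p : Fin l := ⟨Nat.find h - 1, by omega⟩
  have hp : v ∉ spanBefore R M e p := Nat.find_min h (show Nat.find h - 1 < Nat.find h by omega)
  have hv' : v ∈ spanBefore R M e (p + 1) := by
    have := Nat.find_spec h
    rwa [show (p : ℕ) + 1 = Nat.find h from by show Nat.find h - 1 + 1 = _; omega]
  rw [spanBefore_succ, Submodule.mem_sup] at hv'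
  obtain ⟨y, hy, z, hz, hyz⟩ := hv'
  obtain ⟨c, rfl⟩ := Submodule.mem_span_singleton.1 hy
  have hc : IsUnit c := by
    by_contra hc
    refine hp ?_
    rw [← hyz]
    exact add_mem (he p c (by simpa [IsLocalRing.mem_maximalIdeal] using hc)) hz
  obtain ⟨c, rfl⟩ := hc
  exact ⟨p, c, hp, by rw [← hyz, add_sub_cancel_left]; exact hz⟩

theorem Piv.unique_pos {v : M} {e : Fin l → M} {p p' : Fin l} {c c' : Rˣ} (h : Piv v e p c)
    (h' : Piv v e p' c') : p = p' := by
  have key : ∀ {p : Fin l} {c : Rˣ}, Piv v e p c → v ∈ spanBefore R M e (p + 1) := fun {p c} h => by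
    have := add_mem (spanBefore_mono e (Nat.le_succ _) h.2)
      (Submodule.smul_mem _ (c : R) (mem_spanBefore e p (Nat.lt_succ_self _)))
    rwa [sub_add_cancel] at this
  rcases lt_trichotomy (p : ℕ) p' with hlt | heq | hlt
  · exact absurd (spanBefore_mono e hlt (key h)) h'.1
  · exact Fin.ext heq
  · exact absurd (spanBefore_mono e hlt (key h')) h.1

theorem residue_eq_of_sub_smul_mem {e : M} {S : Submodule R M} (he : e ∉ S) {c c' : R}
    (h : (c - c') • e ∈ S) : residue R c = residue R c' := by
  rw [← sub_eq_zero, ← map_sub, residue_eq_zero_iff, IsLocalRing.mem_maximalIdeal]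
  intro hu
  obtain ⟨u, hu⟩ := hu
  exact he (by
    have := S.smul_mem (↑u⁻¹ : R) h
    rwa [smul_smul, ← hu, Units.inv_mul, one_smul] at this)

theorem Piv.unique_coeff {v : M} {e : Fin l → M} {p : Fin l} {c c' : Rˣ}
    (hne : e p ∉ spanBefore R M e p) (h : Piv v e p c) (h' : Piv v e p c') :
    residue R (c : R) = residue R (c' : R) := by
  refine residue_eq_of_sub_smul_mem hne ?_
  have := sub_mem h'.2 h.2
  rwa [sub_sub_sub_cancel_left, ← sub_smul] at this

/-- remove the pivot and pass to the quotient -/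
def reduce (v : M) (e : Fin (l + 1) → M) (p : Fin (l + 1)) : Fin l → M ⧸ (R ∙ v) :=
  fun i => Submodule.Quotient.mk (e (p.succAbove i))

theorem mkQ_mem_reduce {v : M} (e : Fin (l + 1) → M) (p : Fin (l + 1)) (c : Rˣ)
    (h : v - (c : R) • e p ∈ spanBefore R M e p) (j i : ℕ)
    (hji : ∀ s : Fin l, (p.succAbove s : ℕ) < j → (s : ℕ) < i) {x : M}
    (hx : x ∈ spanBefore R M e j) :
    (Submodule.Quotient.mk x : M ⧸ (R ∙ v)) ∈ spanBefore R (M ⧸ (R ∙ v)) (reduce v e p) i := by
  have step : ∀ j : ℕ, (∀ s : Fin l, (p.succAbove s : ℕ) < j → (s : ℕ) < i) → j ≤ p →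
      spanBefore R M e j ≤
        (spanBefore R (M ⧸ (R ∙ v)) (reduce v e p) i).comap (Submodule.mkQ _) := by
    intro j hj hjp
    refine Submodule.span_le.2 ?_
    rintro _ ⟨t, ht, rfl⟩
    obtain ⟨s, rfl⟩ := Fin.exists_succAbove_eq (show t ≠ p from fun h => by subst h; simp at ht; omega)
    exact mem_spanBefore (reduce v e p) s (hj s ht)
  suffices spanBefore R M e j ≤
      (spanBefore R (M ⧸ (R ∙ v)) (reduce v e p) i).comap (Submodule.mkQ _) from this hx
  by_cases hjp : j ≤ p
  · exact step j hji hjp
  refine Submodule.span_le.2 ?_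
  rintro _ ⟨t, ht, rfl⟩
  by_cases htp : t = p
  · subst htp
    have h1 : v - (c : R) • e t ∈ _ := step t (fun s hs => hji s (by simp at ht; omega)) le_rfl h
    rw [Submodule.mem_comap] at h1
    show (Submodule.Quotient.mk (e t) : M ⧸ (R ∙ v)) ∈ spanBefore R (M ⧸ (R ∙ v)) (reduce v e t) i
    have hv : (Submodule.Quotient.mk v : M ⧸ (R ∙ v)) = 0 :=
      (Submodule.Quotient.mk_eq_zero _).2 (Submodule.mem_span_singleton_self v)
    rw [Submodule.mkQ_apply, Submodule.Quotient.mk_sub, hv, zero_sub, neg_mem_iff,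
      Submodule.Quotient.mk_smul] at h1
    have := Submodule.smul_mem _ (↑c⁻¹ : R) h1
    rwa [smul_smul, Units.inv_mul, one_smul] at this
  · obtain ⟨s, rfl⟩ := Fin.exists_succAbove_eq htp
    exact mem_spanBefore (reduce v e p) s (hji s ht)

theorem mkQ_mem_reduce_at {v : M} (e : Fin (l + 1) → M) (p : Fin (l + 1)) (c : Rˣ)
    (h : v - (c : R) • e p ∈ spanBefore R M e p) (i : Fin l) {x : M}
    (hx : x ∈ spanBefore R M e (p.succAbove i)) :
    (Submodule.Quotient.mk x : M ⧸ (R ∙ v)) ∈ spanBefore R (M ⧸ (R ∙ v)) (reduce v e p) i :=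
  mkQ_mem_reduce e p c h _ _ (fun _ hs => p.strictMono_succAbove.lt_iff_lt.1 hs) hx

theorem reduce_admissible {v : M} (e : Fin (l + 1) → M) (he : IsAdmissible R M e) (p : Fin (l + 1))
    (c : Rˣ) (h : v - (c : R) • e p ∈ spanBefore R M e p) :
    IsAdmissible R (M ⧸ (R ∙ v)) (reduce v e p) := by
  intro i r hr
  show r • (Submodule.Quotient.mk _ : M ⧸ (R ∙ v)) ∈ _
  rw [← Submodule.Quotient.mk_smul]
  exact mkQ_mem_reduce_at e p c h i (he _ r hr)

theorem reduce_spans {v : M} (e : Fin (l + 1) → M) (p : Fin (l + 1)) (c : Rˣ)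
    (h : v - (c : R) • e p ∈ spanBefore R M e p) (hs : spanBefore R M e (l + 1) = ⊤) :
    spanBefore R (M ⧸ (R ∙ v)) (reduce v e p) l = ⊤ := by
  rw [eq_top_iff]
  intro y _
  obtain ⟨x, rfl⟩ := Submodule.Quotient.mk_surjective _ y
  exact mkQ_mem_reduce e p c h (l + 1) l (fun s _ => s.2) (hs ▸ Submodule.mem_top)

theorem swap_comp_succAbove (a b : Fin (l + 1)) (hab : (b : ℕ) + 1 = a) (i : Fin l) :
    Equiv.swap a b (a.succAbove i) = b.succAbove i := by
  rcases lt_trichotomy (i : ℕ) b with h | h | h
  · rw [Fin.succAbove_of_castSucc_lt _ _ (Fin.lt_def.2 (by simp; omega)),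
      Fin.succAbove_of_castSucc_lt _ _ (Fin.lt_def.2 (by simp; omega)),
      Equiv.swap_apply_of_ne_of_ne] <;> intro hh <;> simp [Fin.ext_iff] at hh <;> omega
  · rw [Fin.succAbove_of_castSucc_lt _ _ (Fin.lt_def.2 (by simp; omega)),
      Fin.succAbove_of_le_castSucc _ _ (Fin.le_def.2 (by simp; omega)),
      show i.castSucc = b from Fin.ext (by simpa using h), Equiv.swap_apply_right]
    exact Fin.ext (by simp; omega)
  · rw [Fin.succAbove_of_le_castSucc _ _ (Fin.le_def.2 (by simp; omega)),
      Fin.succAbove_of_le_castSucc _ _ (Fin.le_def.2 (by simp; omega)),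
      Equiv.swap_apply_of_ne_of_ne] <;> intro hh <;> simp [Fin.ext_iff] at hh <;> omega

theorem spanBefore_swap_le (e : Fin l → M) (a b : Fin l) (hab : (b : ℕ) + 1 = a) (i : ℕ) (hi : i ≤ b) :
    spanBefore R M (e ∘ Equiv.swap a b) i = spanBefore R M e i :=
  spanBefore_congr fun t ht => by
    have h1 : t ≠ a := fun h => by subst h; omega
    have h2 : t ≠ b := fun h => by subst h; omega
    simp [Equiv.swap_apply_of_ne_of_ne h1 h2]

theorem spanBefore_swap_ge (e : Fin l → M) (a b : Fin l) (hab : (b : ℕ) + 1 = a) (i : ℕ) (hi : (a : ℕ) < i) :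
    spanBefore R M (e ∘ Equiv.swap a b) i = spanBefore R M e i := by
  unfold spanBefore
  congr 1
  rw [Set.image_comp]
  congr 1
  ext t
  simp only [Set.mem_image, Set.mem_setOf_eq]
  have hpres : ∀ s : Fin l, (s : ℕ) < i → (Equiv.swap a b s : ℕ) < i := fun s hs => by
    rcases eq_or_ne s a with rfl | h1
    · rw [Equiv.swap_apply_left]; omega
    rcases eq_or_ne s b with rfl | h2
    · rw [Equiv.swap_apply_right]; omega
    rwa [Equiv.swap_apply_of_ne_of_ne h1 h2]
  exact ⟨fun ⟨s, hs, h⟩ => h ▸ hpres s hs, fun ht => ⟨Equiv.swap a b t, hpres t ht, Equiv.swap_apply_self _ _ _⟩⟩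

theorem exists_weight (R : Type u) [CommRing R] [IsLocalRing R] :
    ∀ (l : ℕ) (M : Type v) [AddCommGroup M] [Module R M], Module.length R M = l →
      ∃ ψ : Adm R M l → ResidueField R, IsWeight ψ := by
  classical
  intro l
  induction l with
  | zero =>
    intro M _ _ hM
    refine ⟨fun e => if spanBefore R M e.1 0 = ⊤ then 1 else 0, fun e h => if_neg h,
      fun e h hc => one_ne_zero ((if_pos h).symm.trans hc), fun _ _ a => a.elim0, fun _ _ a => a.elim0⟩
  | succ l ih =>
    intro M _ _ hM
    by_cases hall : ∀ e : Adm R M (l + 1), spanBefore R M e.1 (l + 1) ≠ ⊤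
    · exact ⟨fun _ => 0, fun _ _ => rfl, fun e h => absurd h (hall e), fun _ _ _ _ _ _ => by simp,
        fun _ _ _ _ _ _ _ => by simp⟩
    push Not at hall
    obtain ⟨e0, he0⟩ := hall
    set v := e0.1 0 with hvdef
    have hb : spanBefore R M e0.1 0 = ⊥ := by simp [spanBefore]
    have hv : v ≠ 0 := fun h => not_mem_of_spans hM e0.1 e0.2 he0 0 (by
      show e0.1 0 ∈ spanBefore R M e0.1 0
      rw [hb]; simpa using h)
    have hlen : Module.length R (M ⧸ (R ∙ v)) = l := by
      have hann : Module.length R (R ∙ v) = 1 := by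
        refine le_antisymm ?_ ?_
        · have := length_spanBefore_le e0.1 e0.2 (((0 : Fin (l + 1)) : ℕ) + 1) (0 : Fin (l + 1)).2
          have h1 := spanBefore_succ (R := R) e0.1 (0 : Fin (l + 1))
          rw [h1, show spanBefore R M e0.1 ((0 : Fin (l + 1)) : ℕ) = ⊥ from hb, sup_bot_eq] at this
          simpa [hvdef] using this
        · have : Nontrivial (R ∙ v) := Submodule.nontrivial_iff_ne_bot.2 (by simpa using hv)
          exact Order.one_le_iff_pos.2 Module.length_pos
      have hadd := Module.length_eq_add_of_exact (R ∙ v).subtype (R ∙ v).mkQ Subtype.val_injective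
        (Submodule.mkQ_surjective _) (LinearMap.exact_subtype_mkQ _)
      rw [hann, hM] at hadd
      have hne : Module.length R (M ⧸ (R ∙ v)) ≠ ⊤ := fun h => by simp [h] at hadd
      obtain ⟨n, hn⟩ := ENat.ne_top_iff_exists.1 hne
      rw [← hn] at hadd ⊢
      norm_cast at hadd ⊢
      omega
    obtain ⟨ψ', w1, w2, w3, w4⟩ := ih (M ⧸ (R ∙ v)) hlen
    have hex := fun (e : Adm R M (l + 1)) (hs : spanBefore R M e.1 (l + 1) = ⊤) =>
      exists_piv hv e.1 e.2 hs
    choose P C hPC using hex
    let red : ∀ (e : Adm R M (l + 1)) (p : Fin (l + 1)) (c : Rˣ), Piv v e.1 p c →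
        Adm R (M ⧸ (R ∙ v)) l := fun e p c h => ⟨reduce v e.1 p, reduce_admissible e.1 e.2 p c h.2⟩
    let ψ : Adm R M (l + 1) → ResidueField R := fun e =>
      if hs : spanBefore R M e.1 (l + 1) = ⊤ then
        (-1) ^ (P e hs : ℕ) * (residue R (C e hs : R))⁻¹ * ψ' (red e _ _ (hPC e hs)) else 0
    have hψ : ∀ (e : Adm R M (l + 1)), spanBefore R M e.1 (l + 1) = ⊤ → ∀ p c (h : Piv v e.1 p c),
        ψ e = (-1) ^ (p : ℕ) * (residue R (c : R))⁻¹ * ψ' (red e p c h) := by
      intro e hs p c h
      have hp : P e hs = p := Piv.unique_pos (hPC e hs) h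
      simp only [ψ, dif_pos hs]
      subst hp
      rw [Piv.unique_coeff (not_mem_of_spans hM e.1 e.2 hs _) (hPC e hs) h]
    refine ⟨ψ, fun e h => dif_neg h, fun e hs => ?_, ?_, ?_⟩
    · obtain ⟨p, c, h⟩ := exists_piv hv e.1 e.2 hs
      rw [hψ e hs p c h]
      refine mul_ne_zero (mul_ne_zero (pow_ne_zero _ (neg_ne_zero.2 one_ne_zero)) (inv_ne_zero ?_)) ?_
      · exact (c.isUnit.map (residue R)).ne_zero
      · exact w2 _ (reduce_spans e.1 p c h.2 hs)
    · intro e e' a c0 hagree hrel
      have heq : ∀ i, spanBefore R M e.1 i = spanBefore R M e'.1 i := by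
        intro i
        have hlow : ∀ i ≤ (a : ℕ), spanBefore R M e.1 i = spanBefore R M e'.1 i := fun i hi =>
          spanBefore_congr fun t ht => hagree t fun h => by subst h; omega
        by_cases hi : i ≤ a
        · exact hlow i hi
        have hS : spanBefore R M e.1 (a + 1) = spanBefore R M e'.1 (a + 1) := by
          rw [spanBefore_succ, spanBefore_succ, ← hlow a le_rfl]
          apply le_antisymm <;> refine sup_le ?_ le_sup_right <;>
            rw [Submodule.span_singleton_le_iff_mem, Submodule.mem_sup]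
          · exact ⟨(c0 : R) • e'.1 a, Submodule.smul_mem _ _ (Submodule.mem_span_singleton_self _), _, hrel,
              by abel⟩
          · refine ⟨(↑c0⁻¹ : R) • e.1 a, Submodule.smul_mem _ _ (Submodule.mem_span_singleton_self _),
              -((↑c0⁻¹ : R) • (e.1 a - (c0 : R) • e'.1 a)), neg_mem (Submodule.smul_mem _ _ hrel), ?_⟩
            rw [smul_sub, smul_smul, Units.inv_mul, one_smul]; abel
        apply le_antisymm <;> refine Submodule.span_le.2 ?_ <;> rintro _ ⟨t, ht, rfl⟩
        · by_cases hta : t = a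
          · subst hta
            have := mem_spanBefore (R := R) e.1 t (Nat.lt_succ_self _)
            rw [hS] at this
            exact spanBefore_mono _ (by omega) this
          · rw [hagree t hta]; exact mem_spanBefore _ _ ht
        · by_cases hta : t = a
          · subst hta
            have := mem_spanBefore (R := R) e'.1 t (Nat.lt_succ_self _)
            rw [← hS] at this
            exact spanBefore_mono _ (by omega) this
          · rw [← hagree t hta]; exact mem_spanBefore _ _ ht
      by_cases hs : spanBefore R M e.1 (l + 1) = ⊤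
      swap
      · have hs' : spanBefore R M e'.1 (l + 1) ≠ ⊤ := heq (l + 1) ▸ hs
        simp only [ψ, dif_neg hs, dif_neg hs', mul_zero]
      have hs' : spanBefore R M e'.1 (l + 1) = ⊤ := heq (l + 1) ▸ hs
      obtain ⟨p, c, h⟩ := exists_piv hv e.1 e.2 hs
      rw [hψ e hs p c h]
      by_cases hpa : p = a
      · subst hpa
        have h' : Piv v e'.1 p (c * c0) := by
          refine ⟨heq p ▸ h.1, ?_⟩
          rw [← heq p]
          have := add_mem h.2 ((spanBefore R M e.1 p).smul_mem (c : R) hrel)
          rw [smul_sub, smul_smul] at this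
          rw [Units.val_mul]
          convert this using 1
          abel
        rw [hψ e' hs' p _ h']
        have hred : (red e p c h) = red e' p _ h' := Subtype.ext (funext fun i => by
          show (Submodule.Quotient.mk (e.1 (p.succAbove i)) : M ⧸ (R ∙ v)) = Submodule.Quotient.mk (e'.1 (p.succAbove i))
          rw [hagree _ (Fin.succAbove_ne p i)])
        rw [hred, Units.val_mul, map_mul]
        have := (c0.isUnit.map (residue R)).ne_zero
        field_simp
      · have h' : Piv v e'.1 p c := ⟨heq p ▸ h.1, by rw [← heq p, ← hagree p hpa]; exact h.2⟩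
        rw [hψ e' hs' p c h']
        obtain ⟨a0, rfl⟩ := Fin.exists_succAbove_eq (Ne.symm hpa)
        rw [w3 (red e p c h) (red e' p c h') a0 c0 (fun j hj => by
          show (Submodule.Quotient.mk (e.1 (p.succAbove j)) : M ⧸ (R ∙ v)) = Submodule.Quotient.mk (e'.1 (p.succAbove j))
          rw [hagree _ (fun hh => hj (Fin.succAbove_right_injective hh))]) (by
          show (Submodule.Quotient.mk (e.1 (p.succAbove a0)) : M ⧸ (R ∙ v)) -
            (c0 : R) • Submodule.Quotient.mk (e'.1 (p.succAbove a0)) ∈ _
          rw [← Submodule.Quotient.mk_smul, ← Submodule.Quotient.mk_sub]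
          exact mkQ_mem_reduce_at e.1 p c h.2 a0 hrel)]
        ring
    · intro e e' a b hab hlow he'
      have hge : ∀ i, (a : ℕ) < i → spanBefore R M e'.1 i = spanBefore R M e.1 i := fun i hi =>
        he' ▸ spanBefore_swap_ge e.1 a b hab i hi
      have hle : ∀ i, i ≤ (b : ℕ) → spanBefore R M e'.1 i = spanBefore R M e.1 i := fun i hi =>
        he' ▸ spanBefore_swap_le e.1 a b hab i hi
      have hea : e'.1 a = e.1 b := by rw [he']; simp
      have heb : e'.1 b = e.1 a := by rw [he']; simp
      have hall : spanBefore R M e'.1 (l + 1) = spanBefore R M e.1 (l + 1) := hge _ a.2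
      by_cases hs : spanBefore R M e.1 (l + 1) = ⊤
      swap
      · simp only [ψ, dif_neg hs, dif_neg (show ¬ spanBefore R M e'.1 (l + 1) = ⊤ from hall ▸ hs), add_zero]
      have hs' : spanBefore R M e'.1 (l + 1) = ⊤ := hall.trans hs
      obtain ⟨p, c, h⟩ := exists_piv hv e.1 e.2 hs
      rw [hψ e hs p c h]
      have hSa : spanBefore R M e.1 a = Submodule.span R {e.1 b} ⊔ spanBefore R M e.1 b := by
        rw [← hab, spanBefore_succ]
      have hSa' : spanBefore R M e'.1 a = Submodule.span R {e.1 a} ⊔ spanBefore R M e.1 b := by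
        rw [← hab, spanBefore_succ, heb, hle b le_rfl]
      have hba : b ≠ a := fun hh => by subst hh; omega
      have hnb := not_mem_of_spans hM e.1 e.2 hs b
      have hna := not_mem_of_spans hM e.1 e.2 hs a
      have sep : ∀ x y : R, IsUnit x ∨ IsUnit y →
          x • e.1 b + y • e.1 a ∉ spanBefore R M e.1 b := by
        intro x y hxy hmem
        by_cases hy : IsUnit y
        · obtain ⟨y, rfl⟩ := hy
          refine hna ?_
          rw [hSa, Submodule.mem_sup]
          refine ⟨(-((↑y⁻¹ : R) * x)) • e.1 b, Submodule.smul_mem _ _ (Submodule.mem_span_singleton_self _),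
            (↑y⁻¹ : R) • (x • e.1 b + (y : R) • e.1 a), Submodule.smul_mem _ _ hmem, ?_⟩
          rw [smul_add, smul_smul, smul_smul, Units.inv_mul, one_smul, neg_smul]; abel
        · obtain ⟨x, rfl⟩ := hxy.resolve_right hy
          refine hnb ?_
          have h2 := sub_mem hmem (hlow y (by simpa [IsLocalRing.mem_maximalIdeal] using hy))
          rw [add_sub_cancel_right] at h2
          have := Submodule.smul_mem _ (↑x⁻¹ : R) h2
          rwa [smul_smul, Units.inv_mul, one_smul] at this
      have hcase1 : ∀ i : Fin l, (e'.1 (a.succAbove i)) = e.1 (b.succAbove i) := fun i => by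
        rw [he', Function.comp_apply, swap_comp_succAbove a b hab]
      have hcase2 : ∀ i : Fin l, (e'.1 (b.succAbove i)) = e.1 (a.succAbove i) := fun i => by
        rw [he', Function.comp_apply, ← swap_comp_succAbove a b hab i, Equiv.swap_apply_self]
      by_cases hpb : p = b
      · subst hpb
        have h' : Piv v e'.1 a c := by
          refine ⟨?_, ?_⟩
          · rw [hSa', Submodule.mem_sup]
            rintro ⟨y, hy, z, hz, hyz⟩
            obtain ⟨t, rfl⟩ := Submodule.mem_span_singleton.1 hy
            refine sep (-(c : R)) t (Or.inl c.isUnit.neg) ?_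
            have := sub_mem h.2 hz
            rw [← hyz] at this
            convert this using 1
            rw [neg_smul]; abel
          · rw [hSa', hea]; exact Submodule.mem_sup_right h.2
        rw [hψ e' hs' a c h', show red e' a c h' = red e p c h from Subtype.ext (funext fun i => by
          show (Submodule.Quotient.mk (e'.1 (a.succAbove i)) : M ⧸ (R ∙ v)) = Submodule.Quotient.mk (e.1 (p.succAbove i))
          rw [hcase1]), ← hab, pow_succ]
        ring
      by_cases hpa : p = a
      · subst hpa
        have h2 := h.2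
        rw [hSa, Submodule.mem_sup] at h2
        obtain ⟨y, hy, z, hz, hyz⟩ := h2
        obtain ⟨d, rfl⟩ := Submodule.mem_span_singleton.1 hy
        by_cases hd : IsUnit d
        swap
        · have hd' := e.2 b d (by simpa [IsLocalRing.mem_maximalIdeal] using hd)
          have h' : Piv v e'.1 b c := by
            refine ⟨hle b le_rfl ▸ fun hh => h.1 (spanBefore_mono e.1 (by omega) hh), ?_⟩
            rw [hle b le_rfl, heb, ← hyz]
            exact add_mem hd' hz
          rw [hψ e' hs' b c h', show red e' b c h' = red e p c h from Subtype.ext (funext fun i => by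
            show (Submodule.Quotient.mk (e'.1 (b.succAbove i)) : M ⧸ (R ∙ v)) = Submodule.Quotient.mk (e.1 (p.succAbove i))
            rw [hcase2]), ← hab, pow_succ]
          ring
        obtain ⟨d, rfl⟩ := hd
        have h' : Piv v e'.1 p d := by
          refine ⟨?_, ?_⟩
          · rw [hSa', Submodule.mem_sup]
            rintro ⟨y, hy, w, hw, hyw⟩
            obtain ⟨t, rfl⟩ := Submodule.mem_span_singleton.1 hy
            refine sep (-(d : R)) (t - (c : R)) (Or.inl d.isUnit.neg) ?_
            have := sub_mem hz hw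
            convert this using 1
            have e1 : z = v - (c : R) • e.1 p - (d : R) • e.1 b := by rw [← hyz]; abel
            have e2 : w = v - t • e.1 p := by rw [← hyw]; abel
            rw [e1, e2, neg_smul, sub_smul]; abel
          · rw [hSa', hea, Submodule.mem_sup]
            refine ⟨(c : R) • e.1 p, Submodule.smul_mem _ _ (Submodule.mem_span_singleton_self _), z, hz, ?_⟩
            have e1 : z = v - (c : R) • e.1 p - (d : R) • e.1 b := by rw [← hyz]; abel
            rw [e1]; abel
        rw [hψ e' hs' p d h']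
        obtain ⟨b0, hb0⟩ := Fin.exists_succAbove_eq hba
        have hw := w3 (red e' p d h') (red e p c h) b0 (-(c⁻¹ * d)) (fun j hj => by
          show (Submodule.Quotient.mk (e'.1 (p.succAbove j)) : M ⧸ (R ∙ v)) = Submodule.Quotient.mk (e.1 (p.succAbove j))
          have hjb : p.succAbove j ≠ b := fun hh => hj (Fin.succAbove_right_injective (hh.trans hb0.symm))
          rw [he', Function.comp_apply, Equiv.swap_apply_of_ne_of_ne (Fin.succAbove_ne p j) hjb]) (by
          show (Submodule.Quotient.mk (e'.1 (p.succAbove b0)) : M ⧸ (R ∙ v)) -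
            ((-(c⁻¹ * d) : Rˣ) : R) • Submodule.Quotient.mk (e.1 (p.succAbove b0)) ∈ _
          have hm := mkQ_mem_reduce_at (v := v) e'.1 p d h'.2 b0 (x := -((↑c⁻¹ : R) • z)) (by
            rw [hb0, hle b le_rfl]; exact neg_mem (Submodule.smul_mem _ _ hz))
          rw [hb0, heb, ← Submodule.Quotient.mk_smul, ← Submodule.Quotient.mk_sub]
          convert hm using 1
          rw [Submodule.Quotient.eq]
          refine Submodule.mem_span_singleton.2 ⟨(↑c⁻¹ : R), ?_⟩
          have e1 : z = v - (c : R) • e.1 p - (d : R) • e.1 b := by rw [← hyz]; abel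
          rw [e1, Units.val_neg, Units.val_mul, smul_sub, smul_sub, smul_smul, smul_smul, Units.inv_mul,
            one_smul, neg_smul]
          abel)
        rw [hw, Units.val_neg, Units.val_mul, map_neg, map_mul]
        have hcu := (c.isUnit.map (residue R)).ne_zero
        have hdu := (d.isUnit.map (residue R)).ne_zero
        have hci : residue R (↑c⁻¹ : R) = (residue R (c : R))⁻¹ := by
          refine (inv_eq_of_mul_eq_one_right ?_).symm
          rw [← map_mul, Units.mul_inv, map_one]
        rw [hci]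
        field_simp
        ring
      obtain ⟨a0, ha0⟩ := Fin.exists_succAbove_eq (Ne.symm hpa)
      obtain ⟨b0, hb0⟩ := Fin.exists_succAbove_eq (Ne.symm hpb)
      have hab0 : (b0 : ℕ) + 1 = a0 := by
        have h1 := congrArg Fin.val ha0
        have h2 := congrArg Fin.val hb0
        simp only [Fin.succAbove] at h1 h2
        split at h1 <;> split at h2 <;>
          simp [Fin.lt_def] at * <;> omega
      have hpv : (p : ℕ) < b ∨ (a : ℕ) < p := by
        have h1 : (p : ℕ) ≠ b := fun hh => hpb (Fin.ext hh)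
        have h2 : (p : ℕ) ≠ a := fun hh => hpa (Fin.ext hh)
        omega
      have hsp : spanBefore R M e'.1 p = spanBefore R M e.1 p := hpv.elim (fun hh => hle _ hh.le) (hge _)
      have hep : e'.1 p = e.1 p := by
        rw [he', Function.comp_apply, Equiv.swap_apply_of_ne_of_ne hpa hpb]
      have h' : Piv v e'.1 p c := ⟨hsp ▸ h.1, by rw [hsp, hep]; exact h.2⟩
      rw [hψ e' hs' p c h', ← mul_add, w4 (red e p c h) (red e' p c h') a0 b0 hab0 (fun r hr => by
        show r • (Submodule.Quotient.mk (e.1 (p.succAbove a0)) : M ⧸ (R ∙ v)) ∈ _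
        rw [ha0, ← Submodule.Quotient.mk_smul]
        exact mkQ_mem_reduce_at e.1 p c h.2 b0 (hb0 ▸ hlow r hr)) (funext fun i => by
        show (Submodule.Quotient.mk (e'.1 (p.succAbove i)) : M ⧸ (R ∙ v)) =
          Submodule.Quotient.mk (e.1 (p.succAbove (Equiv.swap a0 b0 i)))
        rw [he', Function.comp_apply, ← ha0, ← hb0, Fin.succAbove_right_injective.swap_apply]),
        mul_zero]

theorem symbol_ne_zero (hM : IsFiniteLength R M) (e : Adm R M (Module.length R M).toNat)
    (he : Submodule.span R (Set.range e.1) = ⊤) : CycDet.symbol R M e ≠ 0 := by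
  obtain ⟨_, _⟩ := isFiniteLength_iff_isNoetherian_isArtinian.1 hM
  obtain ⟨ψ, w1, w2, w3, w4⟩ := exists_weight R _ M
    (ENat.coe_toNat (Module.length_ne_top (R := R) (M := M))).symm
  let Ψ := Finsupp.linearCombination (ResidueField R) ψ
  have hker : Submodule.span (ResidueField R) (relSet R M (Module.length R M).toNat) ≤ LinearMap.ker Ψ := by
    rw [Submodule.span_le]
    rintro x ((⟨e, a, ha, rfl⟩ | ⟨e, e', a, c, h, h', rfl⟩) | ⟨e, e', a, b, hab, h, he', rfl⟩)
    · rw [SetLike.mem_coe, LinearMap.mem_ker]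
      simp only [Ψ, sym, Finsupp.linearCombination_single, one_smul]
      exact w1 e fun hs => not_mem_of_spans (ENat.coe_toNat (Module.length_ne_top (R := R) (M := M))).symm
        e.1 e.2 hs a ha
    · rw [SetLike.mem_coe, LinearMap.mem_ker]
      simp [Ψ, sym, w3 e e' a c h h']
    · rw [SetLike.mem_coe, LinearMap.mem_ker]
      simp [Ψ, sym, w4 e e' a b hab h he']
  intro h0
  rw [CycDet.symbol, Submodule.Quotient.mk_eq_zero] at h0
  have := hker h0
  rw [LinearMap.mem_ker] at this
  refine w2 e (by rw [spanBefore_all]; exact he) ?_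
  simpa [Ψ, sym] using this

end Groth.Agent.CycDetRank
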